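import Cfsg.Agent.H314.LyOrb.Deg
import Cfsg.Agent.H404.Nse
import Cfsg.Agent.H492.IMPair_m3
import Cfsg.Agent.H417.Divs
import Cfsg.Agent.FastGrp
import Cfsg.Agent.Prune
set_option linter.all false
prune_inst 0x7f00000000000000000000000000000000000000000000000000000000000000000000000000000000000000000000000000000000000000000000000000000000000000000000000000000000000000003fffffffffffffffffffffffffffbeffbdffffffff
open scoped Cfsg.Agent.FastGrp

-- part: H314/FixSum
section
/-!
# Fixed points of the elements of a conjugation invariant set (helper314)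

`E` a set of elements invariant under conjugation, all with the same number `f` of fixed points on `G / H`:
`|E| f = |G : H| |E ∩ H|` and `|E ∩ H| f = ∑ d i |E ∩ H ∩ w_i H w_i⁻¹|`.
-/

set_option autoImplicit false
set_option linter.unusedSectionVars false

namespace Cfsg.Agent.H314.FixSum

open Cfsg Cfsg.Agent.H593.IMFrame Cfsg.Agent.H314.OrbCount MulAction

universe u

variable {G : Type u} [Group G] [Finite G] (H : Subgroup G)

/-- number of elements of `E` in `K` -/
noncomputable def ec (E : Set G) (K : Subgroup G) : ℕ := Nat.card {g : G // g ∈ E ∧ g ∈ K}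

/-- number of fixed points -/
noncomputable def fx (g : G) : ℕ := Nat.card {x : G ⧸ H // g • x = x}

open Classical in
theorem ec_eq [Fintype G] (E : Set G) (K : Subgroup G) :
    ec E K = (Finset.univ.filter fun g : G => g ∈ E ∧ g ∈ K).card := by
  unfold ec
  rw [Nat.card_eq_fintype_card, Fintype.card_subtype]

open Classical in
theorem fx_eq [Fintype (G ⧸ H)] (g : G) : fx H g = (Finset.univ.filter fun x : G ⧸ H => g • x = x).card := by
  unfold fx
  rw [Nat.card_eq_fintype_card, Fintype.card_subtype]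

open Classical in
theorem sum_eq [Fintype G] [Fintype (G ⧸ H)] (S : Finset G) :
    ∑ g ∈ S, fx H g = ∑ x : G ⧸ H, (S.filter fun g => g • x = x).card := by
  simp only [fx_eq H]
  exact Finset.sum_card_bipartiteAbove_eq_sum_card_bipartiteBelow (fun (g : G) (x : G ⧸ H) => g • x = x)

theorem smul_eq_iff (g u : G) : g • (QuotientGroup.mk u : G ⧸ H) = QuotientGroup.mk u ↔ u⁻¹ * g * u ∈ H := by
  rw [smul_mk, QuotientGroup.eq]
  constructor
  · intro h
    have h1 := H.inv_mem h
    have h2 : ((g * u)⁻¹ * u)⁻¹ = u⁻¹ * g * u := by group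
    rwa [h2] at h1
  · intro h
    have h1 := H.inv_mem h
    have h2 : (u⁻¹ * g * u)⁻¹ = (g * u)⁻¹ * u := by group
    rwa [h2] at h1

variable {H}

/-- counting in `G` -/
theorem card_mul (E : Set G) (hE : ∀ g ∈ E, ∀ h : G, h * g * h⁻¹ ∈ E) {f : ℕ} (hf : ∀ g ∈ E, fx H g = f) :
    Nat.card E * f = H.index * ec E H := by
  classical
  have := Fintype.ofFinite G
  have := Fintype.ofFinite (G ⧸ H)
  have h1 := sum_eq H (Finset.univ.filter fun g : G => g ∈ E)
  rw [Finset.sum_congr rfl (fun g hg => hf g (Finset.mem_filter.1 hg).2), Finset.sum_const, smul_eq_mul] at h1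
  have h2 : (Finset.univ.filter fun g : G => g ∈ E).card = Nat.card E := by
    rw [Nat.card_eq_fintype_card, Fintype.card_subtype]
  rw [h2] at h1
  rw [h1]
  have h3 : ∀ x : G ⧸ H, ((Finset.univ.filter fun g : G => g ∈ E).filter fun g => g • x = x).card = ec E H := by
    intro x
    induction x using QuotientGroup.induction_on with
    | H u =>
      rw [ec_eq]
      refine Finset.card_bij (fun g _ => u⁻¹ * g * u) ?_ ?_ ?_
      · intro g hg
        simp only [Finset.mem_filter, Finset.mem_univ, true_and] at hg ⊢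
        refine ⟨?_, (smul_eq_iff H g u).1 hg.2⟩
        have := hE g hg.1 u⁻¹
        rwa [inv_inv] at this
      · intro g _ g' _ h
        have : u⁻¹ * g * u = u⁻¹ * g' * u := h
        simpa using this
      · intro g hg
        simp only [Finset.mem_filter, Finset.mem_univ, true_and] at hg
        refine ⟨u * g * u⁻¹, ?_, by group⟩
        simp only [Finset.mem_filter, Finset.mem_univ, true_and]
        refine ⟨hE g hg.1 u, (smul_eq_iff H _ u).2 ?_⟩
        have : u⁻¹ * (u * g * u⁻¹) * u = g := by group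
        rw [this]
        exact hg.2
  rw [Finset.sum_congr rfl fun x _ => h3 x, Finset.sum_const, smul_eq_mul, Finset.card_univ, ← Nat.card_eq_fintype_card]
  rfl

variable {r : ℕ} {w : Fin r → G} {d : Fin r → ℕ}

/-- counting in `H` -/
theorem card_mul_H (h : Sub G (G ⧸ H) (QuotientGroup.mk 1 : G ⧸ H) (fun i => QuotientGroup.mk (w i)) d)
    (E : Set G) (hE : ∀ g ∈ E, ∀ h : G, h * g * h⁻¹ ∈ E) {f : ℕ} (hf : ∀ g ∈ E, fx H g = f) :
    ec E H * f = ∑ i, d i * ec E (St H (w i)) := by
  classical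
  have := Fintype.ofFinite G
  have := Fintype.ofFinite (G ⧸ H)
  have h1 := sum_eq H (Finset.univ.filter fun g : G => g ∈ E ∧ g ∈ H)
  rw [Finset.sum_congr rfl (fun g hg => hf g (Finset.mem_filter.1 hg).2.1), Finset.sum_const, smul_eq_mul,
    ← ec_eq] at h1
  rw [h1]
  choose o ho using fun x : G ⧸ H => h.exists_rel (QuotientGroup.mk 1 : G ⧸ H) x
  have h3 : ∀ x : G ⧸ H, ((Finset.univ.filter fun g : G => g ∈ E ∧ g ∈ H).filter fun g => g • x = x).card =
      ec E (St H (w (o x))) := by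
    intro x
    have hx := ho x
    generalize o x = i at hx ⊢
    induction x using QuotientGroup.induction_on with
    | H u =>
      rw [rel_iff] at hx
      obtain ⟨h₁, hh1, h₂, hh2, hu⟩ := hx
      have hu' : u = h₁ * w i * h₂ := by rw [← hu]; group
      rw [ec_eq]
      refine Finset.card_bij (fun g _ => h₁⁻¹ * g * h₁) ?_ ?_ ?_
      · intro g hg
        simp only [Finset.mem_filter, Finset.mem_univ, true_and] at hg ⊢
        refine ⟨?_, (mem_St H).2 ⟨H.mul_mem (H.mul_mem (H.inv_mem hh1) hg.1.2) hh1, ?_⟩⟩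
        · have := hE g hg.1.1 h₁⁻¹
          rwa [inv_inv] at this
        · have h4 := (smul_eq_iff H g u).1 hg.2
          have h5 : (w i)⁻¹ * (h₁⁻¹ * g * h₁) * w i = h₂ * (u⁻¹ * g * u) * h₂⁻¹ := by rw [hu']; group
          rw [h5]
          exact H.mul_mem (H.mul_mem hh2 h4) (H.inv_mem hh2)
      · intro g _ g' _ h
        have : h₁⁻¹ * g * h₁ = h₁⁻¹ * g' * h₁ := h
        simpa using this
      · intro g hg
        simp only [Finset.mem_filter, Finset.mem_univ, true_and] at hg
        have h4 := (mem_St H).1 hg.2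
        refine ⟨h₁ * g * h₁⁻¹, ?_, by group⟩
        simp only [Finset.mem_filter, Finset.mem_univ, true_and]
        refine ⟨⟨hE g hg.1 h₁, H.mul_mem (H.mul_mem hh1 h4.1) (H.inv_mem hh1)⟩, (smul_eq_iff H _ u).2 ?_⟩
        have h5 : u⁻¹ * (h₁ * g * h₁⁻¹) * u = h₂⁻¹ * ((w i)⁻¹ * g * w i) * h₂ := by rw [hu']; group
        rw [h5]
        exact H.mul_mem (H.mul_mem (H.inv_mem hh2) h4.2) hh2
  rw [Finset.sum_congr rfl fun x _ => h3 x, ← Finset.sum_fiberwise Finset.univ o]
  refine Finset.sum_congr rfl fun i _ => ?_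
  rw [Finset.sum_congr rfl (fun x hx => by rw [(Finset.mem_filter.1 hx).2] :
    ∀ x ∈ Finset.univ.filter (fun x => o x = i), ec E (St H (w (o x))) = ec E (St H (w i))), Finset.sum_const,
    smul_eq_mul]
  congr 1
  rw [← h.ncard_rel i (QuotientGroup.mk 1), Set.ncard_eq_toFinset_card']
  congr 1
  ext x
  simp only [Finset.mem_filter, Finset.mem_univ, true_and, Set.mem_toFinset, Set.mem_ofPred_eq]
  exact ⟨fun h2 => h2 ▸ ho x, fun h2 => h.rel_unique (ho x) h2⟩

theorem fx_conj (g u : G) : fx H (u * g * u⁻¹) = fx H g := by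
  refine Nat.card_congr ⟨fun x => ⟨u⁻¹ • x.1, ?_⟩, fun x => ⟨u • x.1, ?_⟩, fun x => ?_, fun x => ?_⟩
  · have h1 := x.2
    rw [mul_smul, mul_smul] at h1
    rw [eq_inv_smul_iff]
    exact h1
  · have h1 := x.2
    rw [mul_smul, mul_smul, inv_smul_smul, h1]
  · exact Subtype.ext (smul_inv_smul _ _)
  · exact Subtype.ext (inv_smul_smul _ _)

/-- an element and a generator of the same cyclic subgroup have the same fixed points -/
theorem fx_zpowers {g g' : G} (h : Subgroup.zpowers g = Subgroup.zpowers g') : fx H g = fx H g' := by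
  have key : ∀ {a b : G}, a ∈ Subgroup.zpowers b → ∀ x : G ⧸ H, b • x = x → a • x = x := by
    intro a b hab x hx
    have h1 : b ∈ stabilizer G x := hx
    have h2 : Subgroup.zpowers b ≤ stabilizer G x := by rwa [Subgroup.zpowers_le]
    exact h2 hab
  refine Nat.card_congr (Equiv.subtypeEquivRight fun x => ⟨?_, ?_⟩)
  · exact key (by rw [h]; exact Subgroup.mem_zpowers g') x
  · exact key (by rw [← h]; exact Subgroup.mem_zpowers g) x

end Cfsg.Agent.H314.FixSum
end

-- part: H314/LyOrb/Seven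
section
/-!
# The normalizer of a Sylow 7-subgroup of the Lyons group has order 1008 (helper314)

The elements of order seven of the two-point stabilisers are counted; an element of order seven has
`1 + 325500000 / a` fixed points on the cosets of `G₂(5)`, `a` the number of Sylow 7-subgroups of `G₂(5)`.
-/

set_option autoImplicit false

namespace Cfsg.Agent.H314.LyOrb

open Cfsg.Agent.Lib.PackMat Cfsg.Agent.Ly Cfsg.Agent.H593 Cfsg.Agent.Ly.Mat7 Cfsg.Agent.Ly.CoverCore
  Cfsg.Agent.Ly.Cover Cfsg.Agent.Ly.CoverData Cfsg.Agent.Ly.Invol Cfsg.Agent.Ly.Setup Cfsg.Agent.Ly.Cent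
  Cfsg.Agent.H314.OrbCount Cfsg.Agent.H314.FixSum Subgroup

/-- the elements of order seven -/
def Ev (G : Type*) [Group G] : Set G := {g | orderOf g = 7}

theorem seven_prime : Nat.Prime 7 := by norm_num

instance factSeven : Fact (Nat.Prime 7) := ⟨seven_prime⟩

theorem mem_Ev {G : Type*} [Group G] {g : G} : g ∈ Ev G ↔ g ^ 7 = 1 ∧ g ≠ 1 := by
  constructor
  · intro h
    have h' : orderOf g = 7 := h
    refine ⟨by rw [← h']; exact pow_orderOf_eq_one g, ?_⟩
    rintro rfl
    rw [orderOf_one] at h'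
    exact absurd h' (by norm_num)
  · rintro ⟨h1, h2⟩
    exact orderOf_eq_prime h1 h2

/-- exact counting -/
theorem card_Ev_of {G : Type*} [Group G] [Finite G] (S : Subgroup G) {ι : Type} [Fintype ι] (e : ι → S)
    (he : Function.Injective e) (hcard : Nat.card S = Fintype.card ι) (p : ι → Prop)
    (hp : ∀ i, (e i : G) ^ 7 = 1 ↔ p i) :
    Nat.card {k : G // k ∈ Ev G ∧ k ∈ S} + 1 = Nat.card {i // p i} := by
  classical
  have hbij : Function.Bijective e := by
    have : Fintype S := Fintype.ofFinite S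
    rw [Fintype.bijective_iff_injective_and_card]
    exact ⟨he, by rw [← hcard, Nat.card_eq_fintype_card]⟩
  have h1 : ({k : G | k ^ 7 = 1 ∧ k ∈ S} : Set G).ncard = Nat.card {i // p i} := by
    rw [← Nat.card_coe_set_eq]
    symm
    refine Nat.card_congr (Equiv.ofBijective (fun i : {i // p i} =>
      (⟨(e i.1 : G), (hp i.1).2 i.2, (e i.1).2⟩ : ({k : G | k ^ 7 = 1 ∧ k ∈ S} : Set G))) ⟨?_, ?_⟩)
    · intro i j hij
      have h3 := Subtype.ext_iff.1 hij
      exact Subtype.ext (he (Subtype.ext h3))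
    · rintro ⟨k, hk1, hk2⟩
      obtain ⟨i, hi⟩ := hbij.2 ⟨k, hk2⟩
      refine ⟨⟨i, (hp i).1 ?_⟩, ?_⟩
      · rw [hi]; exact hk1
      · apply Subtype.ext
        show (e i : G) = k
        rw [hi]
  have h2 : ({k : G | k ^ 7 = 1 ∧ k ∈ S} : Set G) = insert 1 {k : G | k ∈ Ev G ∧ k ∈ S} := by
    ext k
    simp only [Set.mem_ofPred_eq, Set.mem_insert_iff, mem_Ev]
    constructor
    · rintro ⟨h3, h4⟩
      by_cases h5 : k = 1
      · exact Or.inl h5
      · exact Or.inr ⟨⟨h3, h5⟩, h4⟩
    · rintro (rfl | ⟨⟨h3, -⟩, h4⟩)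
      · exact ⟨one_pow _, S.one_mem⟩
      · exact ⟨h3, h4⟩
  rw [← h1, h2, Set.ncard_insert_of_notMem (by
    rintro ⟨h3, -⟩
    exact (mem_Ev.1 h3).2 rfl)]
  rfl

/-- The seventh power of the matrix with code `X` is one. -/
noncomputable def sevOne (X : ℕ) : Bool :=
  force (mulF (mulF X X) X) fun Y => Nat.beq (mulF (mulF Y Y) X) oneN

theorem sevOne_iff {X : ℕ} {g : GL75} (h : Rep X g) : g ^ 7 = 1 ↔ sevOne X = true := by
  have h1 := (h.mul h).mul h
  have h2 := (h1.mul h1).mul h
  have e : g * g * g * (g * g * g) * g = g ^ 7 := by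
    simp only [pow_succ, pow_zero, one_mul, mul_assoc]
  rw [e] at h2
  rw [sevOne, force_eq]
  constructor
  · intro h3
    rw [h3] at h2
    rw [h2.code rep_one]
    exact Nat.beq_refl _
  · intro h3
    have h4 := Nat.eq_of_beq_eq_true h3
    rw [h4] at h2
    exact h2.inj rep_one

/-- Number of elements of order dividing seven among the pairs `0, ..., N`. -/
noncomputable def sevCnt (T ST N : ℕ) : ℕ :=
  cntN (fun n => force (pairK T ST n) sevOne) (Nat.succ N)

theorem card_Ev_list {S : Subgroup GL75} {T nT ST N c : ℕ} (hT : ∀ i < nT, In S (tab T i))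
    (h : sorted T nT ST N = true) (hcard : Nat.card S = N + 1)
    (hc : Nat.beq (sevCnt T ST N) (Nat.succ c) = true) :
    Nat.card {k : GL75 // k ∈ Ev GL75 ∧ k ∈ S} = c := by
  classical
  obtain ⟨h1, h2⟩ := sorted_spec' h
  have hmono := strictMono_of h2
  have hf : ∀ n ≤ N, In S (pairK T ST n) := fun n hn => pairK_in hT (h1 n hn)
  choose g hg hrep using fun n : Fin (N + 1) => hf n (Nat.lt_succ_iff.mp n.2)
  have hinj : Function.Injective (fun n : Fin (N + 1) => (⟨g n, hg n⟩ : S)) := by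
    intro m n h
    have h1 : g m = g n := congrArg Subtype.val h
    have h2 : pairK T ST m = pairK T ST n := by
      have h3 := hrep n
      rw [← h1] at h3
      exact (hrep m).code h3
    rcases Nat.lt_trichotomy m n with h3 | h3 | h3
    · have := hmono m n h3 (by omega); omega
    · exact Fin.ext h3
    · have := hmono n m h3 (by omega); omega
  have h5 := card_Ev_of S (fun n : Fin (N + 1) => (⟨g n, hg n⟩ : S)) hinj (by rw [hcard, Fintype.card_fin])
    (fun n => sevOne (pairK T ST n) = true) (fun n => sevOne_iff (hrep n))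
  have h3 := Nat.eq_of_beq_eq_true hc
  rw [sevCnt, cntN_eq] at h3
  have h6 : Nat.card {n : Fin (N + 1) // sevOne (pairK T ST n) = true} =
      ((Finset.range (Nat.succ N)).filter fun n => force (pairK T ST n) sevOne = true).card := by
    rw [← Fintype.card_coe, ← Nat.card_eq_fintype_card]
    refine Nat.card_congr (Equiv.ofBijective (fun n => ⟨(n.1 : ℕ), ?_⟩) ⟨?_, ?_⟩)
    · rw [Finset.mem_filter, force_eq]
      exact ⟨Finset.mem_range.mpr n.1.2, n.2⟩
    · intro a b hab
      exact Subtype.ext (Fin.ext (Subtype.ext_iff.1 hab))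
    · rintro ⟨n, hn⟩
      rw [Finset.mem_filter, force_eq] at hn
      exact ⟨⟨⟨n, Finset.mem_range.mp hn.1⟩, hn.2⟩, rfl⟩
  rw [h6, h3] at h5
  exact Nat.succ_injective h5

theorem sc2 : Nat.beq (sevCnt T2 SO2 6047) (Nat.succ 1728) = true := by decide +kernel
theorem sc4 : Nat.beq (sevCnt T4 SO4 1007) (Nat.succ 48) = true := by decide +kernel

/-- transport -/
theorem ec_St (i : Fin 5) : ec (Ev Cfsg.Spor.Ly) (St psi.range (Setup.w i)) =
    Nat.card {k : GL75 // k ∈ Ev GL75 ∧ k ∈ Hsub (i : ℕ)} := by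
  unfold ec
  rw [St_eq]
  symm
  have hmem : ∀ k : GL75, k ∈ Hsub (i : ℕ) → k ∈ Hhat := fun k hk => Hsub_le_Hhat i hk
  have hord : ∀ (k : GL75) (hk : k ∈ Hhat), orderOf (psi ⟨k, hk⟩) = orderOf k := by
    intro k hk
    rw [orderOf_injective psi psi_injective, ← Subgroup.orderOf_coe]
  refine Nat.card_congr (Equiv.ofBijective (fun k : {k : GL75 // k ∈ Ev GL75 ∧ k ∈ Hsub (i : ℕ)} =>
    (⟨psi ⟨k.1, hmem _ k.2.2⟩, by
      refine ⟨?_, ⟨_, k.2.2, rfl⟩⟩
      show orderOf _ = 7
      rw [hord]; exact k.2.1⟩ : {g : Cfsg.Spor.Ly // g ∈ Ev Cfsg.Spor.Ly ∧ g ∈ (Hs i).map psi})) ⟨?_, ?_⟩)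
  · intro a b hab
    have h1 := psi_injective (Subtype.ext_iff.1 hab)
    have h2 := Subtype.ext_iff.1 h1
    exact Subtype.ext h2
  · rintro ⟨g, hg1, ⟨k, hk, rfl⟩⟩
    refine ⟨⟨(k : GL75), ?_, hk⟩, Subtype.ext rfl⟩
    show orderOf (k : GL75) = 7
    rw [← hord k k.2]
    exact hg1

theorem ec_zero {G : Type*} [Group G] [Finite G] (S : Subgroup G) (h : ¬ 7 ∣ Nat.card S) :
    Nat.card {k : G // k ∈ Ev G ∧ k ∈ S} = 0 := by
  rw [Nat.card_eq_zero]
  left
  refine ⟨fun k => h ?_⟩
  have h1 : orderOf (⟨k.1, k.2.2⟩ : S) = 7 := by rw [Subgroup.orderOf_mk]; exact k.2.1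
  rw [← h1]
  exact orderOf_dvd_natCard _

theorem ec1 : ec (Ev Cfsg.Spor.Ly) (St psi.range (Setup.w 1)) = 0 := by
  rw [ec_St]
  refine ec_zero _ ?_
  rw [card_Hsub 1]
  show ¬ 7 ∣ 300000
  norm_num

theorem ec2 : ec (Ev Cfsg.Spor.Ly) (St psi.range (Setup.w 2)) = 1728 := by
  rw [ec_St]
  exact card_Ev_list in2 so2 (card_Hsub 2) sc2

theorem ec3 : ec (Ev Cfsg.Spor.Ly) (St psi.range (Setup.w 3)) = 0 := by
  rw [ec_St]
  refine ec_zero _ ?_
  rw [card_Hsub 3]
  show ¬ 7 ∣ 2880
  norm_num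

theorem ec4 : ec (Ev Cfsg.Spor.Ly) (St psi.range (Setup.w 4)) = 48 := by
  rw [ec_St]
  exact card_Ev_list in4 so4 (card_Hsub 4) sc4

theorem fac7 : (Nat.card Cfsg.Spor.Ly).factorization 7 = 1 := by
  rw [card_ly]
  have h : (51765179004000000 : ℕ) = 7 ^ 1 * 7395025572000000 := by norm_num
  rw [h, Nat.factorization_mul (by norm_num) (by norm_num), Nat.factorization_pow]
  simp only [Finsupp.coe_add, Finsupp.coe_smul, Pi.add_apply, Pi.smul_apply, smul_eq_mul]
  rw [Nat.Prime.factorization_self seven_prime, Nat.factorization_eq_zero_of_not_dvd (by norm_num)]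

/-- all the elements of order seven have the same number of fixed points -/
theorem exists_f : ∃ f, ∀ g ∈ Ev Cfsg.Spor.Ly, fx psi.range g = f := by
  have hd : 7 ∣ Nat.card Cfsg.Spor.Ly := by rw [card_ly]; norm_num
  obtain ⟨y, hy⟩ := exists_prime_orderOf_dvd_card' 7 hd
  refine ⟨fx psi.range y, fun g hg => ?_⟩
  have h1 := H724.IMTool.mk_mem_sing fac7 hy hg
  rw [H713.Count.mem_sing] at h1
  obtain ⟨k, hk, hkg⟩ := h1
  obtain ⟨u, hu⟩ := isConj_iff.1 (ConjClasses.mk_eq_mk_iff_isConj.1 hkg)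
  rw [← hu, fx_conj]
  refine fx_zpowers (le_antisymm (by
    rw [zpowers_le]
    exact pow_mem (mem_zpowers y) _) ?_)
  have h2 : Nat.card (zpowers y) = Nat.card (zpowers (y ^ k.val)) := by
    rw [Nat.card_zpowers, Nat.card_zpowers]
    have h3 : ¬ 7 ∣ k.val := by
      intro h4
      apply hk
      rw [← ZMod.natCast_zmod_val k]
      exact (ZMod.natCast_eq_zero_iff _ _).2 h4
    rw [orderOf_pow, hy, (Nat.Coprime.gcd_eq_one ((Nat.Prime.coprime_iff_not_dvd seven_prime).2 h3)), Nat.div_one]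
  have h3 : zpowers (y ^ k.val) = zpowers y :=
    Subgroup.eq_of_le_of_card_ge (by rw [zpowers_le]; exact pow_mem (mem_zpowers y) _) h2.le
  rw [h3]

end Cfsg.Agent.H314.LyOrb
end

-- part: H314/LyOrb/NSeven
section
/-!
# The normalizer of a Sylow 7-subgroup of the Lyons group has order 1008, continued (helper314)
-/

set_option autoImplicit false

namespace Cfsg.Agent.H314.LyOrb

open Cfsg.Agent.Ly Cfsg.Agent.Ly.Setup Cfsg.Agent.Ly.Cent Cfsg.Agent.H314.OrbCount Cfsg.Agent.H314.FixSum Subgroup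
  Cfsg.Agent.H404.Nse

theorem card_psi : Nat.card psi.range = 5859000000 := card_range

theorem ecH : ec (Ev Cfsg.Spor.Ly) psi.range = Nat.card (Sylow 7 psi.range) * 6 := by
  have h := cnt_eq (G := psi.range) (p := 7) (by rw [card_psi]; norm_num) (by rw [card_psi]; norm_num)
  rw [show (7 - 1 : ℕ) = 6 by norm_num] at h
  rw [← h]
  unfold ec H404.Nse.cnt
  refine Nat.card_congr ⟨fun g => ⟨⟨g.1, g.2.2⟩, by rw [Subgroup.orderOf_mk]; exact g.2.1⟩,
    fun g => ⟨g.1.1, ⟨by show orderOf (g.1 : Cfsg.Spor.Ly) = 7; rw [Subgroup.orderOf_coe]; exact g.2, g.1.2⟩⟩,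
    fun g => rfl, fun g => rfl⟩

theorem cardE : Nat.card (Ev Cfsg.Spor.Ly) = Nat.card (Sylow 7 Cfsg.Spor.Ly) * 6 := by
  have h := cnt_eq (G := Cfsg.Spor.Ly) (p := 7) (by rw [card_ly]; norm_num) (by rw [card_ly]; norm_num)
  rw [show (7 - 1 : ℕ) = 6 by norm_num] at h
  exact h

theorem ec0 : ec (Ev Cfsg.Spor.Ly) (St psi.range (Setup.w 0)) = ec (Ev Cfsg.Spor.Ly) psi.range := by
  congr 1
  ext g
  rw [mem_St, w_zero, inv_one, one_mul, mul_one, and_self_iff]

/-- the factorization of `837000000` -/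
def facA : List (ℕ × ℕ) := [(2, 6), (3, 3), (5, 6), (31, 1)]

theorem arith (a : ℕ) (ha : a ∣ 837000000) (ha7 : a % 7 = 1) (f : ℕ) (h1 : a * f = a + 325500000) (n : ℕ)
    (h2 : n * f = 8835156 * a) (hn : n ∣ 7395025572000000) : n = 51354344250000 := by
  have hval : H417.Divs.val facA = 837000000 := by decide +kernel
  have hm := H417.Divs.all_divs facA (by unfold facA; intro x hx; fin_cases hx <;> norm_num) hval
    (f := fun m => m % 7 != 1 || 325500000 % m != 0 || (8835156 * m) % (1 + 325500000 / m) != 0 ||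
      7395025572000000 % (8835156 * m / (1 + 325500000 / m)) != 0 ||
      8835156 * m / (1 + 325500000 / m) == 51354344250000) (by decide +kernel) ha
  have ha0 : 0 < a := Nat.pos_of_dvd_of_pos ha (by norm_num)
  have hf : f = 1 + 325500000 / a := by
    obtain ⟨g, rfl⟩ : ∃ g, f = g + 1 := by
      rcases Nat.eq_zero_or_pos f with hf | hf
      · exfalso
        rw [hf, mul_zero] at h1
        exact absurd h1.symm (by positivity)
      · exact ⟨f - 1, by omega⟩
    have h4 : a * (g + 1) = a * g + a := by ring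
    have h5 : 325500000 = a * g := by omega
    rw [Nat.div_eq_of_eq_mul_right ha0 h5, add_comm]
  have hd : a ∣ 325500000 := by
    have h4 : a ∣ a + 325500000 := ⟨f, h1.symm⟩
    exact (Nat.dvd_add_right (dvd_refl a)).1 h4
  rw [← hf] at hm
  have hf0 : 0 < f := by rw [hf]; exact Nat.lt_of_lt_of_le Nat.zero_lt_one (Nat.le_add_right _ _)
  have hn' : 8835156 * a / f = n := by rw [← h2]; exact Nat.mul_div_cancel _ hf0
  have hmod : (8835156 * a) % f = 0 := by rw [← h2]; exact Nat.mul_mod_left _ _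
  rw [hn'] at hm
  simp only [Bool.or_eq_true, bne_iff_ne, ne_eq, beq_iff_eq] at hm
  rcases hm with (((hm | hm) | hm) | hm) | hm
  · exact absurd ha7 hm
  · exact absurd (Nat.mod_eq_zero_of_dvd hd) hm
  · exact absurd hmod hm
  · exact absurd (Nat.mod_eq_zero_of_dvd hn) hm
  · exact hm

theorem card_sylow_seven : Nat.card (Sylow 7 Cfsg.Spor.Ly) = 51354344250000 := by
  obtain ⟨f, hf⟩ := exists_f
  have hE : ∀ g ∈ Ev Cfsg.Spor.Ly, ∀ h : Cfsg.Spor.Ly, h * g * h⁻¹ ∈ Ev Cfsg.Spor.Ly := by
    intro g hg h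
    show orderOf (h * g * h⁻¹) = 7
    rw [H724.IMTool.orderOf_conj]
    exact hg
  have h1 := card_mul (H := psi.range) (Ev Cfsg.Spor.Ly) hE hf
  have h2 := card_mul_H sub_ly (Ev Cfsg.Spor.Ly) hE hf
  rw [Fin.sum_univ_five, ec0, ec1, ec2, ec3, ec4, ecH] at h2
  rw [cardE, ecH, index_range] at h1
  have e0 : dd 0 = 1 := rfl
  have e2 : dd 2 = 968750 := rfl
  have e4 : dd 4 = 5812500 := rfl
  rw [e0, e2, e4] at h2
  have hp : Fact (Nat.Prime 7) := inferInstance
  have hP : ∀ P : Sylow 7 Cfsg.Spor.Ly, (P : Subgroup Cfsg.Spor.Ly).index = 7395025572000000 := by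
    intro P
    have h3 := (P : Subgroup Cfsg.Spor.Ly).card_mul_index
    have h4 : Nat.card (P : Subgroup Cfsg.Spor.Ly) = 7 :=
      card_sylow_eq (by rw [card_ly]; norm_num) (by rw [card_ly]; norm_num) P
    rw [h4, card_ly] at h3
    omega
  have hQ : ∀ P : Sylow 7 psi.range, (P : Subgroup psi.range).index = 837000000 := by
    intro P
    have h3 := (P : Subgroup psi.range).card_mul_index
    have h4 : Nat.card (P : Subgroup psi.range) = 7 :=
      card_sylow_eq (by rw [card_psi]; norm_num) (by rw [card_psi]; norm_num) P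
    rw [h4, card_psi] at h3
    omega
  refine arith (Nat.card (Sylow 7 psi.range)) ?_ ?_ f ?_ _ ?_ ?_
  · rw [← hQ default]
    exact (default : Sylow 7 psi.range).card_dvd_index
  · exact card_sylow_modEq_one 7 psi.range
  · have h5 : Nat.card (Sylow 7 psi.range) * 6 * f = 6 * (Nat.card (Sylow 7 psi.range) * f) := by ring
    rw [h5] at h2
    generalize Nat.card (Sylow 7 psi.range) * f = y at h2 ⊢
    omega
  · have h5 : Nat.card (Sylow 7 Cfsg.Spor.Ly) * 6 * f = 6 * (Nat.card (Sylow 7 Cfsg.Spor.Ly) * f) := by ring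
    have h6 : 8835156 * (Nat.card (Sylow 7 psi.range) * 6) = 6 * (8835156 * Nat.card (Sylow 7 psi.range)) := by ring
    rw [h5, h6] at h1
    exact Nat.eq_of_mul_eq_mul_left (by norm_num) h1
  · rw [← hP default]
    exact (default : Sylow 7 Cfsg.Spor.Ly).card_dvd_index

/-- **The normalizer of a Sylow 7-subgroup.** -/
theorem card_normalizer_seven {x : Cfsg.Spor.Ly} (hx : orderOf x = 7) :
    Nat.card (normalizer (zpowers x : Set Cfsg.Spor.Ly)) = 1008 := by
  let P : Sylow 7 Cfsg.Spor.Ly := Sylow.ofCard (zpowers x) (by rw [Nat.card_zpowers, hx, fac7, pow_one])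
  have h1 := P.card_eq_index_normalizer
  rw [card_sylow_seven] at h1
  have h2 := (normalizer (zpowers x : Set Cfsg.Spor.Ly)).card_mul_index
  have h3 : (normalizer (zpowers x : Set Cfsg.Spor.Ly)).index = 51354344250000 := h1.symm
  rw [h3, card_ly] at h2
  omega

end Cfsg.Agent.H314.LyOrb
end

private theorem dce_c7ac47af60b3 : _root_.True := by
  try have : _root_.True := by simp only [_root_.Cfsg.Agent.H314.LyOrb.sevOne.eq_1]
  try have : _root_.True := by simp only [_root_.Cfsg.Agent.H314.LyOrb.sevCnt.eq_1]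
  exact _root_.True.intro
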